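import Cfsg.Agent.Pa.Ge
import Cfsg.Agent.Hx.Mod

/-! From the geometry to a Moufang octagon. -/

set_option autoImplicit false
set_option linter.unusedSectionVars false

namespace CF.Pa

open MulAction CF.Tb CF.Hx CF.BN Cfsg

theorem nrm {I W : Type*} [Group W] [Finite W] {C : InvGen I W} {G X : Type*} [Group G] [MulAction G X] {T : TB C G X}
    (M : T.Mo) : (⨆ (w) (i), T.Rt w i).Normal ∧ ∀ g, ∃ y ∈ ⨆ (w) (i), T.Rt w i, y⁻¹ * g ∈ T.H := by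
  set Z : Subgroup G := ⨆ (w) (i), T.Rt w i
  have hZ : ∀ w i, T.Rt w i ≤ Z := fun w i => le_iSup₂ (f := fun w i => T.Rt w i) w i
  have h1 : ∀ w, ∃ n ∈ Z, T.Nw n w := fun w => by
    induction w using C.induction_left with
    | one => exact ⟨1, one_mem _, T.mem_H.1 (one_mem _)⟩
    | step i w ih =>
      obtain ⟨n, h1, h2⟩ := ih
      obtain ⟨u, h3, h4⟩ := M.Rt_ne 1 i
      obtain ⟨_, h5, κ, h6, l, h7, rfl⟩ := M.exists_mu h3 h4
      exact ⟨_, mul_mem (mul_mem (mul_mem (hZ _ _ h6) (hZ _ _ h3)) (hZ _ _ h7)) h1, by simpa using h5.mul h2⟩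
  have h2 : ∀ g, ∃ y ∈ Z, y⁻¹ * g ∈ T.H := fun g => by
    obtain ⟨y, h2, -, h3⟩ := M.tr_fix hZ (v := 1) (y := g • T.a 1) rfl
    obtain ⟨n, h4, h5⟩ := h1 (1 * T.δ (T.a 1) (g • T.a 1))
    have h6 : ((y * n)⁻¹ * g) • T.a 1 = T.a 1 := by rw [mul_smul, inv_smul_eq_iff, mul_smul, h5.one, h3]
    obtain ⟨y', h7, h8, h9⟩ := M.tr_fix hZ (v := 1) (w := w0 C) (y := ((y * n)⁻¹ * g) • T.a (1 * w0 C)) (by
      rw [← h6, T.δg, T.δ1, one_mul])
    have := T.mem_H_of (g := y'⁻¹ * ((y * n)⁻¹ * g)) (v := 1)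
      (by rw [mul_smul, h6, inv_smul_eq_iff, h8]) (by rw [mul_smul, ← h9, inv_smul_smul])
    exact ⟨_, mul_mem (mul_mem h2 h4) h7, by simpa [mul_assoc] using this⟩
  refine ⟨⟨fun z hz g => ?_⟩, h2⟩
  obtain ⟨y, h3, h4⟩ := h2 g
  have h11 : Z ≤ Z.comap (MulAut.conj (y⁻¹ * g)).toMonoidHom := iSup₂_le fun w i x hx => hZ w i (TB.conj_Rt_H h4 hx)
  simpa [mul_assoc] using mul_mem (mul_mem h3 (h11 hz)) (inv_mem h3)

namespace Gm

variable {G V : Type*} [Group G] [MulAction G V] [Finite G] {Γ : Gm G V} {x y : ℕ → V} {k : ℕ} {σ σ' : ZMod 16 → V}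
  {g : G} {e c : ZMod 16} {u v w : V}

theorem t2 (h : Γ.Arc (k + 1) x) (h' : Γ.Arc (k + 1) y) (hk : k ≤ 8) (e : x 0 = y 0) (e' : x 1 = y 1) :
    ∃ g : G, (∃ j, g ^ 2 ^ j = 1) ∧ ∀ i ≤ k + 1, g • x i = y i := by
  obtain ⟨g, h1, h2⟩ := Γ.etr (h.1 0 (by omega))
  obtain ⟨s, h4, h3⟩ := tS (h.smul g⁻¹) (h'.smul g⁻¹) hk (inv_smul_eq_iff.2 h1.symm) (inv_smul_eq_iff.2 h2.symm)
    (inv_smul_eq_iff.2 (e ▸ h1.symm)) (inv_smul_eq_iff.2 (e' ▸ h2.symm))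
  obtain ⟨j, h5⟩ := Γ.two ⟨s, h4⟩
  exact ⟨g * s * g⁻¹, ⟨j, by rw [conj_pow, show s ^ 2 ^ j = 1 from congrArg Subtype.val h5]; simp⟩,
    fun i hi => by rw [mul_smul, mul_smul, h3 i hi, smul_inv_smul]⟩

theorem vtr {Y : Subgroup G} (h : ∀ c, stabilizer G (Γ.b c) ≤ Y) (v : V) : ∃ y ∈ Y, y • Γ.b (Γ.col v) = v := by
  have k : ∀ z : ℕ → V, (∀ i < 7, z i = z (i + 1) ∨ Γ.adj (z i) (z (i + 1))) → ∀ i ≤ 7,
      ((∃ y ∈ Y, y • Γ.b (Γ.col (z 0)) = z 0) ↔ ∃ y ∈ Y, y • Γ.b (Γ.col (z i)) = z i) := fun z hz i hi => by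
    have a : ∀ {u v}, Γ.adj u v → (∃ y ∈ Y, y • Γ.b (Γ.col u) = u) → ∃ y ∈ Y, y • Γ.b (Γ.col v) = v := by
      rintro u v e ⟨y, h1, h2⟩
      obtain ⟨g, h3, h4⟩ := Γ.etr e
      exact ⟨g, by simpa using mul_mem h1 (h _ (show (y⁻¹ * g) • _ = _ by rw [mul_smul, h3, inv_smul_eq_iff, h2])),
        by rw [Γ.col_adj e, h4]⟩
    induction i with
    | zero => rfl
    | succ i ih => exact (ih (by omega)).trans ((hz i hi).elim (fun e => by rw [e]) fun e => ⟨a e, a (Γ.symm e)⟩)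
  cases e : Γ.col v
  · obtain ⟨z, h1, rfl, h3⟩ := Γ.near _ v (Γ.col_b _) e
    exact e ▸ (k z h3 7 le_rfl).1 ⟨1, one_mem _, by rw [h1, Γ.col_b, one_smul]⟩
  · obtain ⟨z, rfl, h1, h3⟩ := Γ.near v _ e (Γ.col_b _)
    exact e ▸ (k z h3 7 le_rfl).2 ⟨1, one_mem _, by rw [h1, Γ.col_b, one_smul]⟩

variable (Γ) in
/-- apartments -/
def Cy (σ : ZMod 16 → V) : Prop := (∀ i, Γ.adj (σ i) (σ (i + 1))) ∧ ∀ i, σ i ≠ σ (i + 2)

/-- signs -/
def Sg (e : ZMod 16) : Prop := e = 1 ∨ e = -1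

theorem Cy.aff (h : Γ.Cy σ) (he : Sg e) (c : ZMod 16) : Γ.Cy fun i => σ (e * i + c) := by
  rcases he with rfl | rfl <;> refine ⟨fun i => ?_, fun i => ?_⟩
  · convert h.1 (i + c) using 2 <;> ring
  · convert h.2 (i + c) using 2 <;> ring
  · convert Γ.symm (h.1 (c - i - 1)) using 2 <;> ring
  · convert (h.2 (c - i - 2)).symm using 2 <;> ring

theorem Cy.arc (h : Γ.Cy σ) (k : ℕ) : Γ.Arc k fun i => σ i :=
  ⟨fun i _ => by simpa using h.1 i, fun i _ => by simpa using h.2 i⟩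

theorem Cy.inj (h : Γ.Cy σ) : Function.Injective σ := fun i j e => by_contra fun q =>
  girth ((h.aff (.inl rfl) i).arc (j - i).val) (ZMod.val_pos.2 (sub_ne_zero.2 (Ne.symm q))) (ZMod.val_lt _) (by simpa)

theorem Cy.tr (h : Γ.Cy σ) (h' : Γ.Cy σ') (e : Γ.col (σ 0) = Γ.col (σ' 0)) : ∃ g : G, ∀ i, g • σ i = σ' i := by
  obtain ⟨g, h1⟩ := tG (h.arc 9) (h'.arc 9) le_rfl (by simpa)
  have h2 := (uq (((h.aff (.inl rfl) 9).arc 7).smul g) ((h'.aff (.inl rfl) 9).arc 7) (h1 9 le_rfl) (h1 0 (by omega))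
    (by omega)).2
  refine ⟨g, fun i => ?_⟩
  fin_cases i
  exacts [h1 0 (by omega), h1 1 (by omega), h1 2 (by omega), h1 3 (by omega), h1 4 (by omega), h1 5 (by omega),
    h1 6 (by omega), h1 7 (by omega), h1 8 (by omega), h1 9 (by omega), h2 1 (by omega), h2 2 (by omega),
    h2 3 (by omega), h2 4 (by omega), h2 5 (by omega), h2 6 (by omega)]

theorem Cy.col (h : Γ.Cy σ) (c : ZMod 16) : Γ.col (σ c) = Γ.col (σ 0) ↔ ∃ j : ℕ, c = 2 * j := by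
  have := (h.arc 16).col c.val (ZMod.val_lt _).le
  simp only [ZMod.natCast_val, ZMod.cast_id', id, Nat.cast_zero] at this
  rw [this]
  split_ifs with e
  · exact iff_of_true rfl ⟨c.val / 2, by clear this; revert c; decide⟩
  · exact iff_of_false (by simp) fun ⟨j, q⟩ => e (by
      rw [q, show (2 * j : ZMod 16) = (2 * j : ℕ) by simp, ZMod.val_natCast]; omega)

theorem Cy.half (h : Γ.Cy σ) (hg : g • σ 0 = σ 0) (he : Sg e) : ∃ b : G, b • σ 0 = σ 0 ∧ b • σ 1 = σ 1 ∧ ∃ e', Sg e' ∧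
    ∀ i : ℕ, i ≤ 8 → b • g • σ (e * i) = σ (e' * i) := by
  have a := ((h.aff he 0).arc 8).smul g
  simp only [add_zero] at a
  by_cases q : g • σ (e * (1 : ℕ)) = σ 1
  · obtain ⟨b, h1⟩ := tG a (h.arc 8) (by omega) (by simp [hg])
    exact ⟨b, by simpa [hg] using h1 0 (by omega), by have := h1 1 (by omega); rwa [q, Nat.cast_one] at this, 1, .inl rfl, by simpa⟩
  · obtain ⟨b, h1⟩ := tG (k := 8) ((h.arc 1).cat a (by simp [hg]) fun _ _ => by simpa using Ne.symm q)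
      ((h.aff (.inr rfl) 1).arc 9) le_rfl (by simp)
    refine ⟨b, by simpa using h1 1 (by omega), by simpa using h1 0 (by omega), -1, .inr rfl, fun i hi => ?_⟩
    obtain _ | i := i
    · simpa [hg] using h1 1 (by omega)
    · convert h1 (i + 2) (by omega) using 2
      · simp
      · push_cast; ring

/-- the action on an apartment -/
def Act (σ : ZMod 16 → V) (g : G) (e c : ZMod 16) : Prop := ∀ i, g • σ i = σ (e * i + c)

theorem Act.mul {g' : G} {e' c' : ZMod 16} (h : Act σ g e c) (h' : Act σ g' e' c') :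
    Act σ (g * g') (e * e') (e * c' + c) := fun i => by rw [mul_smul, h', h]; congr 1; ring

theorem Act.inv (h : Act σ g e c) (he : Sg e) : Act σ g⁻¹ e (-e * c) := fun i => by
  rw [inv_smul_eq_iff, h]; congr 1; rcases he with rfl | rfl <;> ring

theorem Sg.mul {e' : ZMod 16} (h : Sg e) (h' : Sg e') : Sg (e * e') := by
  rcases h with rfl | rfl <;> rcases h' with rfl | rfl <;> simp [Sg]

variable (Γ) in
/-- the Borel subgroup -/
def Bo : Subgroup G := ⨅ c, stabilizer G (Γ.b c)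

theorem mem_Bo {d : Bool} : g ∈ Γ.Bo ↔ g • Γ.b d = Γ.b d ∧ g • Γ.b (!d) = Γ.b !d := by
  cases d <;> simp [Bo, Subgroup.mem_iInf, and_comm]

variable (G) in
/-- the stabiliser of an apartment -/
def Nn (σ : ZMod 16 → V) : Subgroup G where
  carrier := {g | ∃ e c, Sg e ∧ Act σ g e c}
  one_mem' := ⟨1, 0, .inl rfl, fun i => by simp⟩
  mul_mem' := fun ⟨_, _, h1, h2⟩ ⟨_, _, h3, h4⟩ => ⟨_, _, h1.mul h3, h2.mul h4⟩
  inv_mem' := fun ⟨_, _, h1, h2⟩ => ⟨_, _, h1, h2.inv h1⟩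

variable (Γ) in
/-- an apartment with its reflections -/
structure Ap where
  /-- the apartment -/
  σ : ZMod 16 → V
  cy : Γ.Cy σ
  b : ∀ d, σ (if d then 0 else 1) = Γ.b d
  /-- the reflections -/
  s : Bool → G
  act : ∀ d, Act σ (s d) (-1) (if d then 0 else 2)

variable (Γ) in
theorem exists_ap : Nonempty Γ.Ap := by
  obtain ⟨σ, h0, h1, h⟩ := Γ.exists_cyc
  choose s hs using fun d : Bool => Cy.tr h (Cy.aff h (.inr rfl) (if d then 0 else 2))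
    ((Cy.col h _).2 ⟨if d then 0 else 1, by cases d <;> rfl⟩).symm
  exact ⟨σ, h, fun d => by cases d <;> assumption, s, hs⟩

namespace Ap

variable (A : Γ.Ap) {d : Bool} {n : G}

/-- the apartment seen from a base vertex -/
def τ (d : Bool) (i : ZMod 16) : V := A.σ ((if d then 1 else -1) * i + if d then 0 else 1)

theorem τ_cy (d : Bool) : Γ.Cy (A.τ d) := A.cy.aff (by cases d <;> simp [Sg]) _

theorem τ0 (d : Bool) : A.τ d 0 = Γ.b d := by rw [← A.b]; simp [τ]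

theorem τ1 (d : Bool) : A.τ d 1 = Γ.b !d := by rw [← A.b]; cases d <;> simp [τ]

theorem s_τ (d : Bool) (i : ZMod 16) : A.s d • A.τ d i = A.τ d (-i) := by
  rw [τ, A.act, τ]; congr 1; cases d <;> simp; ring

theorem N_τ (h : n ∈ Nn G A.σ) (d : Bool) : ∃ e c, Sg e ∧ Act (A.τ d) n e c := by
  obtain ⟨e, c, h1, h2⟩ := h
  cases d
  exacts [⟨e, 1 - e - c, h1, fun i => by rw [τ, h2, τ]; congr 1; simp; ring⟩, ⟨e, c, h1, fun i => by simp [τ, h2 i]⟩]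

theorem s_N (d : Bool) : A.s d ∈ Nn G A.σ := ⟨_, _, .inr rfl, A.act d⟩

theorem mem_B : g ∈ Γ.Bo ↔ g • A.τ d 0 = A.τ d 0 ∧ g • A.τ d 1 = A.τ d 1 := by rw [τ0, τ1, mem_Bo]

theorem act_B (h : Act (A.τ d) n e c) (he : Sg e) : n ∈ Γ.Bo ↔ e = 1 ∧ c = 0 := by
  rw [A.mem_B (d := d), h, h, (A.τ_cy d).inj.eq_iff, (A.τ_cy d).inj.eq_iff]
  rcases he with rfl | rfl <;> clear h <;> revert c <;> decide

theorem fix_H (h : n ∈ Γ.Bo) (hn : n ∈ Nn G A.σ) (d : Bool) (i : ZMod 16) : n • A.τ d i = A.τ d i := by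
  obtain ⟨e, c, h1, h2⟩ := A.N_τ hn d
  obtain ⟨rfl, rfl⟩ := (A.act_B h2 h1).1 h
  simpa using h2 i

theorem act_s (d : Bool) : Act (A.τ d) (A.s d) (-1) 0 := fun i => by simp [s_τ]

theorem act_s' (d : Bool) : Act (A.τ d) (A.s !d) (-1) 2 := fun i => by
  rw [τ, A.act, τ]; congr 1; cases d <;> simp; ring

theorem side (h : Sg e) (c : ZMod 16) : ∃ ε, Sg ε ∧ ∃ i j : ℕ, i ≤ 8 ∧ j ≤ 8 ∧ c = ε * i ∧ e + c = ε * j := by
  have : ∀ c : ZMod 16, ∀ e ∈ [(1 : ZMod 16), -1], ∃ ε ∈ [(1 : ZMod 16), -1], ∃ i ≤ 8, ∃ j ≤ 8,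
    c = ε * (i : ℕ) ∧ e + c = ε * (j : ℕ) := by decide +kernel
  obtain ⟨ε, h1, i, h2, j, h3, h4⟩ := this c e (by simpa [Sg] using h)
  exact ⟨ε, by simpa [Sg] using h1, i, j, h2, h3, h4⟩

theorem st (h : g • Γ.b d = Γ.b d) : g ∈ Γ.Bo ∨ ∃ b ∈ Γ.Bo, (A.s d)⁻¹ * (b * g) ∈ Γ.Bo := by
  obtain ⟨b, h1, h2, e, h3, h4⟩ := (A.τ_cy d).half (g := g) (by rwa [τ0]) (.inl rfl)
  have h5 := A.mem_B.2 ⟨h1, h2⟩
  have h6 := h4 0 (by omega)
  have h7 := h4 1 (by omega)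
  rcases h3 with rfl | rfl
  · exact .inl ((mul_mem_cancel_left h5).1 (A.mem_B.2 ⟨(mul_smul ..).trans (by simpa using h6),
      (mul_smul ..).trans (by simpa using h7)⟩))
  · exact .inr ⟨b, h5, (A.mem_B (d := d)).2 ⟨by simpa [mul_smul, inv_smul_eq_iff, s_τ] using h6,
      by simpa [mul_smul, inv_smul_eq_iff, s_τ] using h7⟩⟩

/-- the BN-pair -/
def bn : BNPair G where
  B := Γ.Bo
  N := Nn G A.σ
  S := Set.range A.s
  sup_eq_top := eq_top_iff.2 fun g _ => by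
    have h : ∀ c, stabilizer G (Γ.b c) ≤ Γ.Bo ⊔ Nn G A.σ := fun c g hg => (A.st hg).elim Subgroup.mem_sup_left
      fun ⟨b, h1, h2⟩ => by
        simpa using mul_mem (inv_mem (Subgroup.mem_sup_left h1)) (mul_mem (Subgroup.mem_sup_right (A.s_N c))
          (Subgroup.mem_sup_left h2))
    obtain ⟨y, h1, h2⟩ := vtr h (g • Γ.b true)
    rw [Γ.col_smul, Γ.col_b] at h2
    simpa using mul_mem h1 (h true (show (y⁻¹ * g) • _ = _ by rw [mul_smul, inv_smul_eq_iff, h2]))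
  conj_mem n hn t ht := by
    obtain ⟨e, c, h1, h2⟩ := A.N_τ (inv_mem hn) true
    exact (A.mem_B (d := true)).2 ⟨by rw [mul_smul, mul_smul, h2, A.fix_H ht.1 ht.2, ← h2, smul_inv_smul],
      by rw [mul_smul, mul_smul, h2, A.fix_H ht.1 ht.2, ← h2, smul_inv_smul]⟩
  subset := by rintro _ ⟨d, rfl⟩; exact A.s_N d
  sq_mem := by
    rintro _ ⟨d, rfl⟩
    exact (A.act_B ((A.act_s d).mul (A.act_s d)) (by simp [Sg])).2 (by simp)
  inj := by
    rintro _ ⟨d, rfl⟩ _ ⟨d', rfl⟩ h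
    by_contra q
    obtain rfl : d' = !d := by cases d <;> cases d' <;> simp_all
    exact absurd ((A.act_B (((A.act_s d).inv (.inr rfl)).mul (A.act_s' d)) (by simp [Sg])).1 h) (by decide)
  closure_sup := le_antisymm (sup_le ((Subgroup.closure_le _).2 (by rintro _ ⟨d, rfl⟩; exact A.s_N d)) inf_le_right)
    fun n hn => by
      obtain ⟨e, c, h1, h2⟩ := A.N_τ hn true
      obtain ⟨j, h3⟩ := ((A.τ_cy true).col c).1 (by simpa using (congrArg Γ.col (h2 0)).symm.trans (Γ.col_smul ..))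
      have h4 : ∀ j : ℕ, Act (A.τ true) ((A.s false * A.s true) ^ j) 1 (2 * j) := fun j => by
        induction j with
        | zero => exact fun i => by simp
        | succ j ih =>
          convert ih.mul ((A.act_s' true).mul (A.act_s true)) using 1
          exacts [pow_succ .., by simp, by push_cast; ring]
      have h5 : ∀ d, A.s d ∈ Subgroup.closure (Set.range A.s) := fun d => Subgroup.subset_closure ⟨d, rfl⟩
      have h6 : ∀ y ∈ Subgroup.closure (Set.range A.s), Act (A.τ true) y e c →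
          n ∈ Subgroup.closure (Set.range A.s) ⊔ Γ.Bo ⊓ Nn G A.σ := fun y h a =>
        mul_inv_cancel_left y n ▸ Subgroup.mul_mem_sup h (Subgroup.mem_inf.2
          ⟨(A.act_B ((a.inv h1).mul h2) (h1.mul h1)).2 (by rcases h1 with rfl | rfl <;> simp), mul_mem (inv_mem
            ((Subgroup.closure_le (Nn G A.σ)).2 (by rintro _ ⟨d, rfl⟩; exact A.s_N d) h)) hn⟩)
      have h7 := pow_mem (mul_mem (h5 false) (h5 true)) j
      rcases h1 with rfl | rfl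
      exacts [h6 _ h7 (h3 ▸ h4 j), h6 _ (mul_mem h7 (h5 true)) (by simpa [h3] using (h4 j).mul (A.act_s true))]
  mul_mem_union := by
    rintro _ ⟨d, rfl⟩ n hn b hb
    obtain ⟨e, c, h1, h2⟩ := A.N_τ hn d
    obtain ⟨ε, h3, i, j, h4, h5, h6, h7⟩ := side h1 c
    obtain ⟨b', h8, h9, ε', h10, h11⟩ := (A.τ_cy d).half (g := A.s d * b) (by
      rw [mul_smul, (A.mem_B.1 hb).1, s_τ, neg_zero]) h3
    have k : ∀ m, m • A.τ d 0 = A.τ d (ε' * i) → m • A.τ d 1 = A.τ d (ε' * j) →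
        A.s d * b * n ∈ DoubleCoset.doubleCoset m (Γ.Bo : Set G) Γ.Bo := fun m a1 a2 =>
      DoubleCoset.mem_doubleCoset.2 ⟨_, inv_mem (A.mem_B.2 ⟨h8, h9⟩), m⁻¹ * (b' * (A.s d * b * n)), A.mem_B.2
        ⟨by rw [mul_smul, mul_smul, mul_smul, h2, mul_zero, zero_add, h6, h11 i h4, inv_smul_eq_iff, a1],
         by rw [mul_smul, mul_smul, mul_smul, h2, mul_one, h7, h11 j h5, inv_smul_eq_iff, a2]⟩, by group⟩
    obtain rfl | rfl : ε' = -ε ∨ ε' = ε := by rcases h3 with rfl | rfl <;> rcases h10 with rfl | rfl <;> simp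
    · exact .inl (k _ (by rw [mul_smul, h2, s_τ, mul_zero, zero_add, h6, neg_mul])
        (by rw [mul_smul, h2, s_τ, mul_one, h7, neg_mul]))
    · exact .inr (k _ (by rw [h2, mul_zero, zero_add, h6]) (by rw [h2, mul_one, h7]))
  conj_ne := by
    rintro _ ⟨d, rfl⟩ h
    obtain ⟨g, h1, h2⟩ := mv (k := 0) (((A.τ_cy d).aff (.inr rfl) 1).arc 2) (by omega)
    obtain ⟨b, h3, rfl⟩ := h.ge (A.mem_B.2 ⟨by simpa using h1 1 le_rfl, by simpa using h1 0 zero_le_one⟩)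
    refine h2 ?_
    simp only [mul_smul, s_τ, show -(-1 * ((0 + 2 : ℕ) : ZMod 16) + 1) = 1 by decide, (A.mem_B.1 h3).2]
    rfl

/-- the nodes -/
def nd (d : Bool) : A.bn.S := ⟨_, d, rfl⟩

theorem wt_s (d : Bool) : wt A.bn (A.s d) = (cox A.bn).s (A.nd d) := BN.wt_s (A.nd d)

theorem of_wt {p : G} (h : wt A.bn p = (cox A.bn).s (A.nd d)) :
    p • A.τ d 0 = A.τ d 0 ∧ Γ.adj (A.τ d 0) (p • A.τ d 1) ∧ p • A.τ d 1 ≠ A.τ d 1 := by
  have : p • A.τ d 0 = A.τ d 0 := by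
    obtain ⟨b, h1, b', h2, rfl⟩ := wt_eq_wt_iff.1 (h.trans (A.wt_s d).symm)
    rw [mul_smul, mul_smul, (A.mem_B.1 h2).1, s_τ, neg_zero, (A.mem_B.1 h1).1]
  exact ⟨this, this ▸ Γ.smul p (by simpa [this] using (A.τ_cy d).1 0), fun e =>
    cox_s_ne_one _ _ (h ▸ wt_eq_one_iff.2 (A.mem_B.2 ⟨this, e⟩))⟩

theorem mm8 : mm (cox A.bn) (A.nd true) (A.nd false) = 8 := by
  have h : ∀ j : ℕ, Act (A.τ true) ((A.s true * A.s false) ^ j) 1 (-2 * j) := fun j => by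
    induction j with
    | zero => exact fun i => by simp
    | succ j ih =>
      convert ih.mul ((A.act_s true).mul (A.act_s' true)) using 1
      exacts [pow_succ .., by simp, by push_cast; ring]
  have k : ∀ j : ℕ, ((cox A.bn).s (A.nd true) * (cox A.bn).s (A.nd false)) ^ j = 1 ↔ -2 * (j : ZMod 16) = 0 := fun j => by
    rw [cox_s, cox_s, ← QuotientGroup.mk_mul, ← QuotientGroup.mk_pow, mk_eq_one_iff]
    exact (A.act_B (h j) (.inl rfl)).trans (and_iff_right rfl)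
  exact orderOf_eq_prime_pow (p := 2) (n := 2) (by rw [k]; decide) (by rw [k]; decide)

theorem lb : Lb (cox A.bn) 2 0 8 fun t => if t = 0 then A.nd true else A.nd false :=
  lb_of (ne_of_mm (n := 6) A.mm8) (by rintro ⟨_, _ | _, rfl⟩; exacts [.inr rfl, .inl rfl]) A.mm8

/-- root groups -/
def Vr (d : Bool) : Subgroup G where
  carrier := {g | (∀ i : ℕ, i ≤ 8 → g • A.τ d i = A.τ d i) ∧ ∀ i : ℕ, 0 < i → i < 8 → ∀ w, Γ.adj (A.τ d i) w → g • w = w}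
  one_mem' := by simp
  mul_mem' h h' := ⟨fun i hi => by rw [mul_smul, h'.1 i hi, h.1 i hi], fun i h1 h2 w e => by
    rw [mul_smul, h'.2 i h1 h2 w e, h.2 i h1 h2 w e]⟩
  inv_mem' h := ⟨fun i hi => by rw [inv_smul_eq_iff, h.1 i hi], fun i h1 h2 w e => by
    rw [inv_smul_eq_iff, h.2 i h1 h2 w e]⟩

theorem Vr_tr (h1 : Γ.adj (A.τ d 0) w) (h2 : w ≠ A.τ d 1) : ∃ g ∈ A.Vr d, g • A.τ d (-1) = w := by
  have a := fun k => ((A.τ_cy d).aff (.inr rfl) 8).arc k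
  obtain ⟨g, ⟨j, h3⟩, h4⟩ := t2 (a 9) ((a 8).snoc h1 fun _ => h2) le_rfl rfl rfl
  have h5 : ∀ i : ℕ, i ≤ 8 → g • A.τ d i = A.τ d i := fun i hi => by
    have := h4 (8 - i) (by omega)
    rwa [if_pos (by omega), show -1 * ((8 - i : ℕ) : ZMod 16) + 8 = i by rw [Nat.cast_sub hi]; push_cast; ring] at this
  refine ⟨g, ⟨h5, fun i h6 h7 w h8 => ?_⟩, h4 9 le_rfl⟩
  obtain ⟨i, rfl⟩ : ∃ j, i = j + 1 := ⟨i - 1, by omega⟩
  have b := (A.τ_cy d).arc 8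
  exact Γ.fix2 g j h3 (Γ.symm (b.1 i (by omega))) (b.1 (i + 1) h7) (b.2 i h7) (h5 _ h7.le) (h5 _ (by omega)) (h5 _ h7) h8

theorem mo (hf : A.bn.B.normalCore = ⊥) : (tb0 A.bn hf).Mo ∧ ∀ d, A.Vr d ≤ (tb0 A.bn hf).U (A.nd d) := by
  choose ix hx using fun a : A.bn.S => a.2
  have e1 : ∀ a, A.nd (ix a) = a := fun a => Subtype.ext (hx a)
  have e2 : ∀ d, ix (A.nd d) = d := fun d => by_contra fun q => ne_of_mm (n := 6) A.mm8 (by
    have := e1 (A.nd d); revert this q; generalize ix _ = c; cases c <;> cases d <;> simp [eq_comm])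
  have n := nc_of_mm (cox_s_injective _) (n := 5) A.mm8
  refine And.imp_right (fun l d => by simpa only [e2] using l (A.nd d)) <| mo_of A.bn hf (fun a => A.Vr (ix a))
    (fun a n => ∀ c, ∃ i : ℕ, i ≤ 8 ∧ n • Γ.b c = A.τ (ix a) i) (fun a n hn => ?_) (fun a n _ h g hg => ?_)
    (fun a l n hn h e p hp g hg => ?_) (fun a g hg => A.mem_B.2 ⟨by simpa using hg.1 0 (by omega),
      by simpa using hg.1 1 (by omega)⟩) (fun a x e => ?_) fun a => (lb_or A.lb a).elim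
        (fun e => ⟨A.nd false, by rw [e]; exact n⟩) fun e => ⟨A.nd true, by rw [e]; exact n.symm⟩
  · rw [← hx a]
    generalize ix a = d
    obtain ⟨e, c, h1, h2⟩ := A.N_τ hn d
    obtain ⟨ε, h3, i, j, h4, h5, h6, h7⟩ := side h1 c
    have k : ∀ c, ∃ i : ℕ, i ≤ 8 ∧ n • Γ.b c = A.τ d (ε * i) := fun c => by
      obtain rfl | rfl : c = d ∨ c = !d := by cases c <;> cases d <;> simp
      exacts [⟨i, h4, by rw [← A.τ0, h2, mul_zero, zero_add, h6]⟩, ⟨j, h5, by rw [← A.τ1, h2, mul_one, h7]⟩]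
    exact h3.imp (fun e c => by simpa [e] using k c) fun e c => (k c).imp fun i h =>
      ⟨h.1, by simp [mul_smul, h.2, s_τ, e]⟩
  · refine Subgroup.mem_iInf.2 fun c => ?_
    obtain ⟨i, h1, h2⟩ := h c
    rw [mem_stabilizer_iff, mul_smul, mul_smul, h2, hg.1 i h1, ← h2, inv_smul_smul]
  · rw [← e1 l] at e hp
    rw [← e1 a] at e
    generalize ix l = d at e hp
    generalize ix a = c at e h hg
    obtain ⟨h1, h2, -⟩ := A.of_wt hp
    obtain ⟨i, h3, h4⟩ := h d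
    rw [← A.τ0] at h4
    refine (A.mem_B (d := d)).2 ⟨by simp only [mul_smul, h1, h4, hg.1 i h3, inv_smul_eq_iff], ?_⟩
    simp only [mul_smul, inv_smul_eq_iff]
    refine hg.2 i (Nat.pos_of_ne_zero fun q => e ?_) (h3.lt_of_ne fun q => e ?_) _ (h4 ▸ Γ.smul n h2)
    all_goals
      have h0 := mul_mem (mul_mem hn (A.s_N d)) (inv_mem hn)
      obtain ⟨ε, j, h5, h6⟩ := A.N_τ h0 c
      have h7 := h6 i
      rw [← h4, mul_smul, inv_smul_smul, mul_smul, s_τ, neg_zero, h4, (A.τ_cy c).inj.eq_iff] at h7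
      have h8 : ε = -1 ∧ j = 0 := by
        have : ¬ (ε = 1 ∧ j = 0) := fun q => s_not_mem_B A.bn ⟨d, rfl⟩ (by
          simpa [mul_assoc] using A.bn.conj_mem _ (inv_mem hn) _ ⟨(A.act_B h6 h5).2 q, h0⟩)
        subst q
        rcases h5 with rfl | rfl <;> clear * - this h7 <;> revert j <;> decide
      rw [← wt_s, ← wt_s, ← wt_mul_of_mem_N hn (A.s_N d), ← wt_mul_of_mem_N (A.s_N c) hn,
        wt_eq_wt_iff_of_mem_N (mul_mem hn (A.s_N d)) (mul_mem (A.s_N c) hn)]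
      have := A.bn.conj_mem _ (inv_mem hn) _ ⟨(A.act_B ((h6.inv h5).mul (A.act_s c)) (h5.mul (.inr rfl))).2 (by
        simp [h8]), (Nn G A.σ).mul_mem ((Nn G A.σ).inv_mem h0) (A.s_N c)⟩
      simpa [mul_assoc] using this
  · rw [← e1 a] at e
    obtain ⟨h1, h2, h3⟩ := A.of_wt e
    obtain ⟨g, h4, h5⟩ := A.Vr_tr h2 h3
    have := h4.1 0 (by omega)
    exact ⟨g, h4, (A.mem_B (d := ix a)).2 ⟨by simpa [← hx a, mul_smul, inv_smul_eq_iff, h1, s_τ] using this.symm,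
      by simp only [← hx a, mul_smul, inv_smul_eq_iff, s_τ, h5]⟩⟩

theorem card_U (hf : A.bn.B.normalCore = ⊥) (d : Bool) : Nat.card ((tb0 A.bn hf).U (A.nd d)) = Γ.n d := by
  obtain ⟨M, l⟩ := A.mo hf
  have a := (A.τ_cy d).1
  have h1 : ∀ g ∈ (tb0 A.bn hf).U (A.nd d), g ∈ Γ.Bo := fun g hg => by
    have := (tb0 A.bn hf).Bi_one hg.1
    rw [← BN.wt_one, a_wt _ _ (one_mem _), fix_mk] at this
    rwa [inv_one, one_mul, mul_one] at this
  rw [← congrArg Γ.n (Γ.col_b d), ← A.τ0, ← nb (a 0), ← Nat.card_coe_set_eq]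
  refine Nat.card_eq_of_bijective (fun g => ⟨g.1 • A.τ d (-1), (A.mem_B.1 (h1 _ g.2)).1 ▸ Γ.smul _ (Γ.symm (a (-1))),
    fun e => (A.τ_cy d).2 (-1) (MulAction.injective g.1 (e.trans (A.mem_B.1 (h1 _ g.2)).2.symm))⟩)
    ⟨fun g g' e => Subtype.ext (eq_of_inv_mul_eq_one (M.Rt_reg (w := 1)
      (TB.Rt_one.ge (mul_mem (inv_mem g.2) g'.2)) ?_)), fun ⟨w, h2, h3⟩ =>
      let ⟨g, h4, h5⟩ := A.Vr_tr h2 h3; ⟨⟨g, l d h4⟩, Subtype.ext h5⟩⟩
  rw [one_mul, ← wt_s, a_wt _ _ (A.s_N d), fix_mk]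
  have := (A.mem_B (d := d)).1 (h1 _ (mul_mem (inv_mem g.2) g'.2))
  exact (A.mem_B (d := d)).2 ⟨by rw [mul_smul, mul_smul, s_τ, neg_zero, this.1, inv_smul_eq_iff, s_τ, neg_zero],
    by simp only [mul_smul, s_τ, inv_smul_eq_iff]; exact (congrArg Subtype.val e).symm⟩

theorem gn (hf : A.bn.B.normalCore = ⊥) (h : Subgroup.normalClosure (Γ.S : Set G) = ⊤) : Gn (tb0 A.bn hf) := fun Y hY => by
  obtain ⟨h1, h2⟩ := nrm (A.mo hf).1
  refine top_unique (h.ge.trans ((Subgroup.normalClosure_le_normal fun s hs => ?_).trans (iSup₂_le hY)))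
  obtain ⟨y, h3, h4⟩ := h2 s
  have h5 : Odd (orderOf (y⁻¹ * s)) := Nat.not_even_iff_odd.1 fun ⟨r, e⟩ => by
    have a := (A.τ_cy true).arc 9
    have := Γ.nf ((y⁻¹ * s) ^ r) (by rw [← pow_add, ← e, pow_orderOf_eq_one]) _ a.1 a.2 fun i _ => by
      obtain ⟨c, n, hn, q⟩ : ∃ c, ∃ n ∈ Nn G A.σ, n • Γ.b c = A.τ true i := by
        obtain ⟨n, q⟩ := (A.τ_cy (Γ.col (A.τ true i))).tr ((A.τ_cy true).aff (.inl rfl) i) (by simp [τ0, Γ.col_b])
        refine ⟨_, n, ?_, by simpa [τ0] using q 0⟩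
        cases c : Γ.col (A.τ true i) <;> rw [c] at q
        · exact ⟨-1, 1 + i, .inr rfl, fun j => by convert q (1 - j) using 2 <;> simp [τ]; ring_nf⟩
        · exact ⟨1, i, .inl rfl, fun j => by simpa [τ] using q j⟩
      have := (tb0 A.bn hf).H_fix (pow_mem h4 r) (wt _ n)
      rw [a_wt _ _ hn, fix_mk] at this
      simpa only [mem_stabilizer_iff, mul_smul, inv_smul_eq_iff, q] using Subgroup.mem_iInf.1 this c
    have h6 := orderOf_pos (y⁻¹ * s)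
    have := Nat.le_of_dvd (by omega) (orderOf_dvd_of_pow_eq_one this)
    omega
  obtain ⟨j, h6⟩ := Γ.two ⟨s, hs⟩
  rw [SetLike.mem_coe]
  rw [← QuotientGroup.eq_one_iff] at h3 ⊢
  refine (pow_eq_one_iff_of_coprime ((Nat.coprime_two_left.2 h5).pow_left j)).1 ⟨?_, ?_⟩
  · rw [← QuotientGroup.mk_pow, show s ^ 2 ^ j = 1 from congrArg Subtype.val h6]; rfl
  · have := congrArg (QuotientGroup.mk (s := ⨆ w, ⨆ i, (tb0 A.bn hf).Rt w i)) (pow_orderOf_eq_one (y⁻¹ * s))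
    rwa [QuotientGroup.mk_pow, QuotientGroup.mk_mul, QuotientGroup.mk_inv, h3, inv_one, one_mul] at this

end Ap

theorem oct (hf : ∀ g : G, (∀ v : V, g • v = v) → g = 1) (h : Subgroup.normalClosure (Γ.S : Set G) = ⊤) :
    ∃ (P : BNPair G) (hf : P.B.normalCore = ⊥) (f : ℕ → P.S), Lb (cox P) 2 0 8 f ∧ (tb0 P hf).Mo ∧ Gn (tb0 P hf) ∧
      Nat.card ((tb0 P hf).U (f 0)) = Γ.n true ∧ Nat.card ((tb0 P hf).U (f 1)) = Γ.n false := by
  obtain ⟨A⟩ := Γ.exists_ap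
  have k : A.bn.B.normalCore = ⊥ := eq_bot_iff.2 fun g hg => hf g fun v => by
    obtain ⟨y, -, e⟩ := vtr (Γ := Γ) (fun _ => le_top) v
    simpa only [mem_stabilizer_iff, mul_smul, inv_smul_eq_iff, inv_inv, e] using Subgroup.mem_iInf.1 (hg y⁻¹) (Γ.col v)
  exact ⟨A.bn, k, _, A.lb, (A.mo k).1, A.gn k h, A.card_U k true, A.card_U k false⟩

end Gm

end CF.Pa
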