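import Mathlib

/-! Arc-regular actions on bipartite graphs: girth and apartments. -/

set_option autoImplicit false
set_option linter.unusedSectionVars false

namespace CF.Pa

open MulAction

theorem card_orb {G V : Type*} [Group G] [MulAction G V] (A : Subgroup G) (x : V) :
    Nat.card A = {w | ∃ s ∈ A, s • x = w}.ncard * Nat.card (A ⊓ stabilizer G x : Subgroup G) := by
  rw [← (stabilizer A x).index_mul_card, index_stabilizer]
  congr 1
  · exact congrArg _ (Set.ext fun w => ⟨fun ⟨s, h⟩ => ⟨s, s.2, h⟩, fun ⟨s, h1, h⟩ => ⟨⟨s, h1⟩, h⟩⟩)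
  · rw [show stabilizer A x = (A ⊓ stabilizer G x).subgroupOf A from Subgroup.ext fun s => by
      simp [Subgroup.mem_subgroupOf]; rfl]
    exact Nat.card_congr (Subgroup.subgroupOfEquivOfLe inf_le_left).toEquiv

theorem eq_bot_of_inv {G : Type*} [Group G] {A : Subgroup G} (h : IsPGroup 2 A) (h1 : ∀ g ∈ A, g * g = 1 → g = 1) :
    A = ⊥ := (Subgroup.eq_bot_iff_forall _).2 fun g hg => by
  obtain ⟨k, hk⟩ := h ⟨g, hg⟩
  replace hk : g ^ 2 ^ k = 1 := congrArg Subtype.val hk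
  induction k with
  | zero => simpa using hk
  | succ k ih => exact ih (h1 _ (pow_mem hg _) (by rw [← pow_add, ← two_mul, ← pow_succ', hk]))

/-- An octagonal geometry in the making. -/
structure Gm (G V : Type*) [Group G] [MulAction G V] where
  /-- adjacency -/
  adj : V → V → Prop
  symm : ∀ {x y}, adj x y → adj y x
  smul : ∀ (g : G) {x y}, adj x y → adj (g • x) (g • y)
  /-- colours -/
  col : V → Bool
  col_adj : ∀ {x y}, adj x y → col y = !col x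
  col_smul : ∀ (g : G) x, col (g • x) = col x
  /-- base vertices -/
  b : Bool → V
  col_b : ∀ c, col (b c) = c
  adj_b : ∀ c, adj (b c) (b !c)
  etr : ∀ {x y}, adj x y → ∃ g : G, g • b (col x) = x ∧ g • b (!col x) = y
  /-- the Sylow subgroup -/
  S : Subgroup G
  two : IsPGroup 2 S
  fix : ∀ s ∈ S, ∀ c, s • b c = b c
  /-- valencies -/
  n : Bool → ℕ
  le : ∀ c, 2 ≤ n c
  tr : ∀ c, ∃ z, adj (b c) z ∧ z ≠ b (!c) ∧ (∀ w, adj (b c) w → w ≠ b (!c) → ∃ s ∈ S, s • z = w) ∧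
    Nat.card S = n c * Nat.card (S ⊓ stabilizer G z : Subgroup G)
  card : Nat.card S = (n true * n false) ^ 4
  nf : ∀ g : G, g * g = 1 → ∀ x : ℕ → V, (∀ i < 9, adj (x i) (x (i + 1))) → (∀ i, i + 2 ≤ 9 → x i ≠ x (i + 2)) →
    (∀ i ≤ 9, g • x i = x i) → g = 1
  near : ∀ x y, col x = true → col y = false → ∃ z : ℕ → V, z 0 = x ∧ z 7 = y ∧
    ∀ i < 7, z i = z (i + 1) ∨ adj (z i) (z (i + 1))
  fix2 : ∀ (g : G) (k : ℕ), g ^ 2 ^ k = 1 → ∀ {x y z w}, adj x y → adj x z → y ≠ z → g • x = x → g • y = y →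
    g • z = z → adj x w → g • w = w

namespace Gm

variable {G V : Type*} [Group G] [MulAction G V] [Finite G] (Γ : Gm G V) {x y : ℕ → V} {k m n : ℕ} {u v w : V}

/-- arcs -/
def Arc (k : ℕ) (x : ℕ → V) : Prop := (∀ i < k, Γ.adj (x i) (x (i + 1))) ∧ ∀ i, i + 2 ≤ k → x i ≠ x (i + 2)

variable {Γ}

theorem Arc.mono (h : Γ.Arc k x) (e : m ≤ k) : Γ.Arc m x :=
  ⟨fun i hi => h.1 i (by omega), fun i hi => h.2 i (by omega)⟩

theorem Arc.smul (h : Γ.Arc k x) (g : G) : Γ.Arc k fun i => g • x i :=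
  ⟨fun i hi => Γ.smul g (h.1 i hi), fun i hi e => h.2 i hi (MulAction.injective g e)⟩

theorem Arc.shift (h : Γ.Arc (m + k) x) : Γ.Arc k fun i => x (m + i) :=
  ⟨fun i hi => h.1 (m + i) (by omega), fun i hi => h.2 (m + i) (by omega)⟩

theorem Arc.snoc (h : Γ.Arc k x) (h1 : Γ.adj (x k) w) (h2 : 0 < k → w ≠ x (k - 1)) :
    Γ.Arc (k + 1) fun i => if i ≤ k then x i else w := by
  refine ⟨fun i hi => ?_, fun i hi => ?_⟩ <;> dsimp only
  · rw [if_pos (by omega)]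
    split_ifs with e
    exacts [h.1 i e, (show i = k by omega) ▸ h1]
  · rw [if_pos (by omega)]
    split_ifs with e
    exacts [h.2 i e, (show i = k - 1 by omega) ▸ (h2 (by omega)).symm]

theorem Arc.cat (h : Γ.Arc m x) (h' : Γ.Arc n y) (e : x 0 = y 0) (e' : 0 < m → 0 < n → x 1 ≠ y 1) :
    Γ.Arc (m + n) fun i => if i ≤ m then x (m - i) else y (i - m) := by
  refine ⟨fun i hi => ?_, fun i hi => ?_⟩ <;> dsimp only <;> split_ifs with h1 h2 h2
  · simpa [show m - (i + 1) + 1 = m - i by omega] using Γ.symm (h.1 (m - (i + 1)) (by omega))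
  · simpa [show m = i by omega, e] using h'.1 0 (by omega)
  · omega
  · simpa [show i + 1 - m = i - m + 1 by omega] using h'.1 (i - m) (by omega)
  · simpa [show m - (i + 2) + 2 = m - i by omega] using (h.2 (m - (i + 2)) (by omega)).symm
  · obtain rfl | rfl : m = i ∨ m = i + 1 := by omega
    · simpa [e] using h'.2 0 (by omega)
    · simpa [show i + 2 - (i + 1) = 1 by omega] using e' (by omega) (by omega)
  · omega
  · simpa [show i + 2 - m = i - m + 2 by omega] using h'.2 (i - m) (by omega)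

theorem Arc.col (h : Γ.Arc k x) (i : ℕ) (hi : i ≤ k) : Γ.col (x i) = if i % 2 = 0 then Γ.col (x 0) else !Γ.col (x 0) := by
  induction i with
  | zero => rfl
  | succ i ih =>
    rw [Γ.col_adj (h.1 i hi), ih (by omega)]
    rcases Nat.mod_two_eq_zero_or_one i with e | e <;> simp [e, Nat.add_mod]

theorem nb (h : Γ.adj u v) : {w | Γ.adj u w ∧ w ≠ v}.ncard = Γ.n (Γ.col u) := by
  obtain ⟨g, h1, h2⟩ := Γ.etr h
  generalize Γ.col u = c at h1 h2
  subst h1 h2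
  obtain ⟨z, h1, h2, h3, h4⟩ := Γ.tr c
  rw [card_orb _ z, mul_left_inj' Nat.card_pos.ne'] at h4
  rw [← h4, ← Set.ncard_image_of_injective {w | ∃ s ∈ Γ.S, s • z = w} (MulAction.injective g)]
  refine congrArg _ (Set.ext fun w => ⟨fun ⟨e1, e2⟩ => ⟨g⁻¹ • w, h3 _ (by simpa using Γ.smul g⁻¹ e1)
    fun e => e2 (by rw [← e, smul_inv_smul]), smul_inv_smul ..⟩, ?_⟩)
  rintro ⟨_, ⟨s, hs, rfl⟩, rfl⟩
  exact ⟨Γ.smul g (Γ.fix s hs c ▸ Γ.smul s h1), fun e => h2 (MulAction.injective s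
    ((MulAction.injective g e).trans (Γ.fix s hs _).symm))⟩

theorem nb_fin (h : Γ.adj u v) : {w | Γ.adj u w ∧ w ≠ v}.Finite :=
  Set.finite_of_ncard_pos (by rw [nb h]; have := Γ.le (Γ.col u); omega)

theorem third (h : Γ.adj u v) (z : V) : ∃ w, Γ.adj u w ∧ w ≠ v ∧ w ≠ z := by
  obtain ⟨w, h1, h2⟩ := Set.exists_ne_of_one_lt_ncard (s := {w | Γ.adj u w ∧ w ≠ v}) (by rw [nb h]; exact Γ.le _) z
  exact ⟨w, h1.1, h1.2, h2⟩

theorem Arc.ext (h : Γ.Arc (k + 1) x) (m : ℕ) : ∃ y, Γ.Arc (k + 1 + m) y ∧ ∀ i ≤ k + 1, y i = x i := by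
  induction m with
  | zero => exact ⟨x, h, fun _ _ => rfl⟩
  | succ m ih =>
    obtain ⟨y, h1, h2⟩ := ih
    obtain ⟨w, h3, h4, -⟩ := third (Γ.symm (h1.1 (k + m) (by omega))) (y 0)
    exact ⟨_, h1.snoc (by rwa [add_right_comm]) fun _ => by rwa [add_right_comm], fun i hi => by
      rw [if_pos (by omega), h2 i hi]⟩

/-- pointwise stabilisers -/
def Fx (G : Type*) [Group G] [MulAction G V] (k : ℕ) (x : ℕ → V) : Subgroup G := ⨅ i ≤ k, stabilizer G (x i)

theorem mem_Fx {g : G} : g ∈ Fx G k x ↔ ∀ i ≤ k, g • x i = x i := by simp [Fx, Subgroup.mem_iInf]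

theorem trS (h : Γ.Arc 9 x) {c : Bool} (h0 : x 0 = Γ.b c) (h1 : x 1 = Γ.b !c) (hk : k < 8) (h2 : Γ.adj (x (k + 1)) w)
    (h3 : w ≠ x k) : ∃ s ∈ Γ.S ⊓ Fx G (k + 1) x, s • x (k + 2) = w := by
  let o (k : ℕ) := {w | ∃ s ∈ Γ.S ⊓ Fx G (k + 1) x, s • x (k + 2) = w}
  have e1 : ∀ k < 8, o k ⊆ {w | Γ.adj (x (k + 1)) w ∧ w ≠ x k} := by
    rintro k hk _ ⟨s, hs, rfl⟩
    have := mem_Fx.1 hs.2
    exact ⟨this _ le_rfl ▸ Γ.smul s (h.1 _ (by omega)), fun e => h.2 k (by omega)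
      (MulAction.injective s ((this k (by omega)).trans e.symm))⟩
  have e2 : ∀ k, Nat.card Γ.S = (∏ i ∈ Finset.range k, (o i).ncard) *
      Nat.card (Γ.S ⊓ Fx G (k + 1) x : Subgroup G) := fun k => by
    induction k with
    | zero =>
      rw [inf_eq_left.2 fun s hs => mem_Fx.2 fun i hi => by
        obtain rfl | rfl : i = 0 ∨ i = 1 := by omega
        exacts [h0 ▸ Γ.fix s hs _, h1 ▸ Γ.fix s hs _], Finset.prod_range_zero, one_mul]
    | succ k ih =>
      rw [ih, Finset.prod_range_succ, mul_assoc, card_orb _ (x (k + 2)), inf_assoc]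
      congr 4
      ext g
      simp only [Subgroup.mem_inf, mem_Fx, mem_stabilizer_iff]
      exact and_congr_right fun _ => ⟨fun e i hi => (Nat.le_succ_iff.1 hi).elim (e.1 i) fun q => q ▸ e.2,
        fun e => ⟨fun i hi => e i (by omega), e _ le_rfl⟩⟩
  have e3 := e2 8
  rw [eq_bot_of_inv (Γ.two.to_le inf_le_left) fun g hg e => Γ.nf g e x h.1 h.2 (mem_Fx.1 hg.2), Subgroup.card_bot,
    mul_one, Γ.card] at e3
  have e4 := fun k (hk : k < 8) => nb (Γ.symm (h.1 k (by omega)))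
  have e5 := fun k (hk : k < 8) => nb_fin (Γ.symm (h.1 k (by omega)))
  refine (Set.eq_of_subset_of_ncard_le (e1 k hk) (not_lt.1 fun e => ?_) (e5 k hk)).ge ⟨h2, h3⟩
  have := Finset.prod_lt_prod (s := Finset.range 8) (f := fun i => (o i).ncard)
    (g := fun i => Γ.n (Γ.col (x (i + 1)))) (fun i hi => Nat.pos_of_ne_zero fun e => by
      have := Γ.le true
      have := Γ.le false
      rw [Finset.prod_eq_zero hi e] at e3
      exact absurd e3 (by positivity))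
    (fun i hi => e4 i (Finset.mem_range.1 hi) ▸ Set.ncard_le_ncard (e1 i (Finset.mem_range.1 hi))
      (e5 i (Finset.mem_range.1 hi))) ⟨k, Finset.mem_range.2 hk, e4 k hk ▸ e⟩
  rw [← e3, Finset.prod_congr rfl fun i hi => congrArg Γ.n (h.col (i + 1) (by have := Finset.mem_range.1 hi; omega))]
    at this
  refine this.ne ?_
  cases Γ.col (x 0) <;> simp [Finset.prod_range_succ] <;> ring

theorem tS (h : Γ.Arc (k + 1) x) (h' : Γ.Arc (k + 1) y) (hk : k ≤ 8) {c : Bool} (h0 : x 0 = Γ.b c) (h1 : x 1 = Γ.b !c)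
    (h0' : y 0 = Γ.b c) (h1' : y 1 = Γ.b !c) : ∃ s ∈ Γ.S, ∀ i ≤ k + 1, s • x i = y i := by
  obtain ⟨z, h2, h3⟩ := h.ext (8 - k)
  rw [show k + 1 + (8 - k) = 9 by omega] at h2
  rw [← h3 _ (by omega)] at h0 h1
  suffices ∀ j ≤ k, ∃ s ∈ Γ.S, ∀ i ≤ j + 1, s • z i = y i from
    (this k le_rfl).imp fun s hs => ⟨hs.1, fun i hi => h3 i hi ▸ hs.2 i hi⟩
  intro j hj
  induction j with
  | zero =>
    refine ⟨1, one_mem _, fun i hi => ?_⟩
    obtain rfl | rfl : i = 0 ∨ i = 1 := by omega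
    exacts [by rw [h0, h0', one_smul], by rw [h1, h1', one_smul]]
  | succ j ih =>
    obtain ⟨s, h4, h5⟩ := ih (by omega)
    obtain ⟨t, h6, h7⟩ := trS (k := j) (w := s⁻¹ • y (j + 2)) h2 h0 h1 (by omega)
      (by simpa [← h5 _ le_rfl] using Γ.smul s⁻¹ (h'.1 (j + 1) (by omega)))
      fun e => h'.2 j (by omega) (by rw [← h5 j (by omega), ← e, smul_inv_smul])
    refine ⟨s * t, mul_mem h4 h6.1, fun i hi => ?_⟩
    rcases Nat.le_succ_iff.1 hi with e | rfl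
    exacts [by rw [mul_smul, mem_Fx.1 h6.2 i e, h5 i e], by rw [mul_smul, h7, smul_inv_smul]]

theorem tG (h : Γ.Arc (k + 1) x) (h' : Γ.Arc (k + 1) y) (hk : k ≤ 8) (e : Γ.col (x 0) = Γ.col (y 0)) :
    ∃ g : G, ∀ i ≤ k + 1, g • x i = y i := by
  obtain ⟨g, h1, h2⟩ := Γ.etr (h.1 0 (by omega))
  obtain ⟨g', h1', h2'⟩ := Γ.etr (h'.1 0 (by omega))
  obtain ⟨s, -, h3⟩ := tS (h.smul g⁻¹) (h'.smul g'⁻¹) hk (inv_smul_eq_iff.2 h1.symm) (inv_smul_eq_iff.2 h2.symm)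
    (inv_smul_eq_iff.2 (e ▸ h1'.symm)) (inv_smul_eq_iff.2 (e ▸ h2'.symm))
  exact ⟨g' * s * g⁻¹, fun i hi => by rw [mul_smul, mul_smul, h3 i hi, smul_inv_smul]⟩

theorem mv (h : Γ.Arc (k + 2) x) (hk : k < 8) : ∃ g : G, (∀ i ≤ k + 1, g • x i = x i) ∧ g • x (k + 2) ≠ x (k + 2) := by
  obtain ⟨w, h1, h2, h3⟩ := third (Γ.symm (h.1 k (by omega))) (x (k + 2))
  obtain ⟨g, h4⟩ := tG h ((h.mono (Nat.le_succ _)).snoc h1 fun _ => h2) hk rfl
  exact ⟨g, fun i hi => by rw [h4 i (by omega), if_pos hi], by rwa [h4 _ le_rfl, if_neg (by omega)]⟩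

theorem girth (h : Γ.Arc k x) (h0 : 0 < k) (h1 : k < 16) : x 0 ≠ x k := by
  induction k using Nat.strong_induction_on generalizing x with | _ k ih => ?_
  intro e
  have h2 := h.col k le_rfl
  rw [← e] at h2
  obtain ⟨m, rfl⟩ : ∃ m, k = m + 2 + m := ⟨k / 2 - 1, by split_ifs at h2 <;> [omega; simp at h2]⟩
  obtain _ | m := m
  · exact h.2 0 le_rfl e
  obtain ⟨g, h3, h4⟩ := mv (k := m + 2) (h.mono (by omega)) (by omega)
  refine ih _ (by omega) (h.shift.cat (h.shift.smul g) (h3 _ le_rfl).symm fun _ _ => h4.symm) (by omega) (by omega) ?_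
  simp [← e, h3]

theorem uq (h : Γ.Arc m x) (h' : Γ.Arc n y) (e : x 0 = y 0) (e' : x m = y n) (hl : m + n < 16) :
    m = n ∧ ∀ i ≤ m, x i = y i := by
  induction m generalizing n x y with
  | zero =>
    obtain rfl : n = 0 := by_contra fun h0 => girth h' (by omega) (by omega) (e.symm.trans e')
    simpa
  | succ m ih =>
    obtain _ | n := n
    · exact absurd (e.trans e'.symm) (girth h (by omega) hl)
    by_cases h1 : x 1 = y 1
    · rw [add_comm] at h h' e'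
      obtain ⟨rfl, h2⟩ := ih h.shift h'.shift h1 (by rw [e', add_comm]) (by omega)
      exact ⟨rfl, fun i hi => by cases i; exacts [e, by simpa [add_comm] using h2 _ (by omega)]⟩
    · exact absurd (by simpa using e') (girth (h.cat h' e fun _ _ => h1) (by omega) hl)

theorem arc_of (h : ∀ i < k, x i = x (i + 1) ∨ Γ.adj (x i) (x (i + 1))) :
    ∃ j ≤ k, ∃ y, Γ.Arc j y ∧ y 0 = x 0 ∧ y j = x k := by
  induction k with
  | zero => exact ⟨0, le_rfl, x, ⟨by simp, by simp⟩, rfl, rfl⟩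
  | succ k ih =>
    obtain ⟨j, h1, y, h2, h3, h4⟩ := ih fun i hi => h i (by omega)
    rcases h k (by omega) with e | e
    · exact ⟨j, by omega, y, h2, h3, e ▸ h4⟩
    by_cases h5 : 0 < j → x (k + 1) ≠ y (j - 1)
    · exact ⟨j + 1, by omega, _, h2.snoc (h4 ▸ e) h5, by simpa, by simp⟩
    · push Not at h5
      exact ⟨j - 1, by omega, y, h2.mono (by omega), h3, h5.2.symm⟩

variable (Γ) in
theorem exists_cyc : ∃ σ : ZMod 16 → V, σ 0 = Γ.b true ∧ σ 1 = Γ.b false ∧ (∀ i, Γ.adj (σ i) (σ (i + 1))) ∧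
    ∀ i, σ i ≠ σ (i + 2) := by
  obtain ⟨x, h, h1⟩ := Arc.ext (Γ := Γ) (k := 0) (x := fun i => Γ.b (i = 0)) ⟨fun i hi => by
    simpa [show i = 0 by omega] using Γ.adj_b true, by omega⟩ 8
  have h0 : x 0 = Γ.b true := h1 0 zero_le_one
  obtain ⟨z, h2, h3, h4⟩ := Γ.near (x 0) (x 9) (h0 ▸ Γ.col_b _) (by rw [h.col 9 le_rfl, h0, Γ.col_b]; rfl)
  obtain ⟨j, h5, y, h6, h7, h8⟩ := arc_of h4
  rw [h2] at h7
  rw [h3] at h8
  obtain rfl : j = 7 := by_contra fun e => by have := (uq h6 h h7 h8 (by omega)).1; omega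
  have h9 : x 1 ≠ y 1 := fun e => by
    have := (uq (m := 6) (n := 8) (Arc.shift (m := 1) h6) (Arc.shift (m := 1) h) e.symm h8 (by omega)).1; omega
  have h10 : x 8 ≠ y 6 := fun e => by
    have := (uq (h6.mono (by omega : 6 ≤ 7)) (h.mono (by omega : 8 ≤ 9)) h7 e.symm (by omega)).1; omega
  have a := h.1
  have b := h6.1
  have c := h.2
  have d := h6.2
  refine ⟨fun i => if i.val ≤ 9 then x i.val else y (16 - i.val), h0, h1 1 le_rfl, fun i => ?_, fun i => ?_⟩ <;> fin_cases i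
  exacts [a 0 (by omega), a 1 (by omega), a 2 (by omega), a 3 (by omega), a 4 (by omega), a 5 (by omega), a 6 (by omega),
    a 7 (by omega), a 8 (by omega), (h8 ▸ Γ.symm (b 6 (by omega)) : Γ.adj (x 9) (y 6)), Γ.symm (b 5 (by omega)), Γ.symm (b 4 (by omega)),
    Γ.symm (b 3 (by omega)), Γ.symm (b 2 (by omega)), Γ.symm (b 1 (by omega)), (h7 ▸ Γ.symm (b 0 (by omega)) : Γ.adj (y 1) (x 0)),
    c 0 (by omega), c 1 (by omega), c 2 (by omega), c 3 (by omega), c 4 (by omega), c 5 (by omega), c 6 (by omega),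
    c 7 (by omega), h10, (h8 ▸ (d 5 (by omega)).symm : x 9 ≠ y 5), (d 4 (by omega)).symm, (d 3 (by omega)).symm, (d 2 (by omega)).symm,
    (d 1 (by omega)).symm, (h7 ▸ (d 0 (by omega)).symm : y 2 ≠ x 0), h9.symm]

end Gm

end CF.Pa
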