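import Cfsg.Agent.Hx.Mod2
import Cfsg.Agent.BN.TwF4
import Cfsg.Agent.Classical.Transport
import Cfsg.Agent.S1074

/-! The Moufang octagon of the groups `²F₄(q)`. -/

set_option autoImplicit false

namespace CF.Pa

open CF.Tb CF.Hx CF.BN CF.Chev Cfsg Cfsg.Lie

section

variable {B ι : Type} [Fintype B] [DecidableEq B] [Fintype ι] [DecidableEq ι] {C : ChevBasis B ι} {K G : Type} [Field K]
  [Group G] {ρ : StRep C K G} {T : Tw ρ} {G1 : Subgroup G} (F : T.Form G1) [Finite K]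

/-- the case of a group generated by unipotent elements -/
theorem mm_gen (hs : F.Simp) (hZ : Subgroup.center G = ⊥) (hG : G1 ≤ T.Gen) {i j : B}
    (h1 : ∀ k, k ∈ T.S.orb i ∨ k ∈ T.S.orb j) {m : ℕ} (h2 : orderOf (T.S.s i * T.S.s j) = m + 3) {X : Type*} [Group X]
    (e : Nonempty (X ≃* G1)) : Mm X (m + 3) (Nat.card (blk T i)) (Nat.card (blk T j)) := by
  have := fin T
  have hf := F.normalCore_eq_bot hs hZ
  refine mm_form F hf h1 h2 e fun M l Y hY => ?_
  have F' : T.Form (Y.map G1.subtype) := ⟨(Subgroup.map_subtype_le _).trans F.fix, fun k g hg =>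
    ⟨⟨g, F.pos k hg⟩, hY 1 _ (TB.Rt_one.ge (l k hg)), rfl⟩, fun k => by
      obtain ⟨v, hv, h2, h3⟩ := F.neg k
      have n : ρ.NW (nd F k).1 (T.S.s k) := F.nW_nJ k
      refine ⟨v, ⟨_, hY _ _ ((nw_wt _ hf (F.bn.subset (nd F k).2)).conj_U (l k (x := (nd F k).1⁻¹ * ⟨v, hv⟩ * (nd F k).1)
        ⟨?_, ?_⟩)), by simp [mul_assoc]⟩, h2, h3⟩
      exacts [n.acts.inv_conj_mem_U (fun r hr => by
        rw [lg_inv]; exact ⟨(pos_lg_of_inSub hr.2).2 hr.1, inSub_lg.2 hr.2⟩) h2, F.fix (Subgroup.map_subtype_le ⊤ ⟨_, trivial, rfl⟩)]⟩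
  exact eq_top_iff.2 fun g _ => (Subgroup.mem_map_iff_mem G1.subtype_injective).1 (F'.Gen_le (hG g.2))

end

/-- the octagon of `²F₄(q)` -/
theorem mmF4 {K : Type} [Field K] [Fintype K] {m : ℕ} (hK : Fintype.card K = 2 ^ (2 * m + 1)) :
    Mm (twistedF4 K (2 ^ m)) 8 ((2 ^ (2 * m + 1)) ^ 2) (2 ^ (2 * m + 1)) := by
  obtain ⟨_, θ, h1, h2⟩ := exists_theta Nat.prime_two hK
  have D := dataF4 (pF4_eq (isIs_twF4 θ))
  have h3 : ∀ i, Nat.card (blk (twF4 θ) i) = (2 ^ (2 * m + 1)) ^ ((rlF4 i).length / 2) := fun i => by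
    simpa only [← D.length_s, Tw.cU, Tw.Uw_lg, Nat.card_eq_fintype_card, hK] using cU_F4 (isIs_twF4 θ) h2 i
  have := mm_gen (packF4 h1 h2).F (simpF4 (isIs_twF4 θ) h2 h1) (packF4 h1 h2).center (gF4_le_Gen (isIs_twF4 θ) h2 h1)
    (i := 1) (j := 0) (by simp only [packF4, D.mem_orb]; decide) (m := 5)
    (D.orderOf_mul carF4' (by decide +kernel)) ⟨(packF4 h1 h2).e⟩
  simp only [packF4, h3] at this
  exact (congrArg (Mm _ 8 _) (pow_one _)).mp this

theorem not_simple_F42 : ¬ IsSimpleGroup (twistedF4 (ZMod 2) 1) := fun _ => by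
  obtain ⟨h1, h2, -⟩ := Cfsg.Agent.S1074.result
  rcases (inferInstance : (commutator (twistedF4 (ZMod 2) 1)).Normal).eq_bot_or_eq_top with h | h
  · exact not_subsingleton _ (h ▸ inferInstance : Subsingleton (commutator (twistedF4 (ZMod 2) 1)))
  · simp [h] at h1

section

variable {F K : Type*} [Field F] [Field K]

theorem xMat_map (D : ChevalleyDatum) (φ : F →+* K) (r : Fin D.nroots) (t : F) :
    (D.xMat F r t).map φ = D.xMat K r (φ t) := by
  ext row col
  rcases row with i | u <;> rcases col with j | s <;>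
    simp only [ChevalleyDatum.xMat, Matrix.map_apply, Matrix.of_apply] <;> split_ifs <;>
    simp [map_list_sum, List.map_map, Function.comp_def]

theorem wordMat_map (D : ChevalleyDatum) (φ : F →+* K) (w : List (ℕ × F)) :
    (D.wordMat F w).map φ = D.wordMat K (w.map (Prod.map id φ)) := by
  rw [ChevalleyDatum.wordMat, ChevalleyDatum.wordMat, ← RingHom.mapMatrix_apply, map_list_prod,
    List.map_map, List.map_map]
  congr 2
  funext p
  simp only [Function.comp, ChevalleyDatum.x, Prod.map, id]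
  split_ifs
  · exact xMat_map D φ _ _
  · exact map_one _

theorem f4_map_le (φ : F ≃+* K) (e : ℕ) : (twistedF4 F e).map
    (Classical.glCongr chevF4.Idx φ : GL chevF4.Idx F →* GL chevF4.Idx K) ≤ twistedF4 K e := by
  rw [twistedF4, ChevalleyDatum.genSubgroup, MonoidHom.map_closure]
  refine Subgroup.closure_mono ?_
  rintro _ ⟨g, ⟨w, h, hg⟩, rfl⟩
  refine ⟨w.map (Prod.map id φ), ?_, (congrArg (·.map φ) hg).trans (wordMat_map _ φ.toRingHom w)⟩
  rcases h with ⟨t, rfl | rfl⟩ | ⟨t, u, rfl | rfl⟩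
  exacts [.inl ⟨φ t, .inl (by simp [f4PairWord])⟩, .inl ⟨φ t, .inr (by simp [f4PairWord])⟩,
    .inr ⟨φ t, φ u, .inl (by simp [b2ClassWord])⟩, .inr ⟨φ t, φ u, .inr (by simp [b2ClassWord])⟩]

theorem f4_congr [Fintype F] [Fintype K] (h : Fintype.card F = Fintype.card K) (e : ℕ) :
    Nonempty (twistedF4 F e ≃* twistedF4 K e) := by
  have φ := FiniteField.ringEquivOfCardEq h
  refine ⟨((Classical.glCongr _ φ).subgroupMap _).trans (MulEquiv.subgroupCongr
    ((f4_map_le φ e).antisymm fun g hg => ⟨_, f4_map_le φ.symm e ⟨g, hg, rfl⟩, ?_⟩))⟩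
  ext i j
  exact φ.apply_symm_apply _

end

end CF.Pa
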